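import Mathlib
import Groth.Agent.LC.CanonComplete

universe u

set_option linter.unusedSectionVars false

open TensorProduct IsLocalRing

namespace Groth.Agent.ComplFam

variable (A : Type u) [CommRing A]

/-- element `b ⊗ 1` of `B ⊗ A/I` vanishes iff `b ∈ IB`. -/
theorem tmul_one_eq_zero_iff {B : Type u} [CommRing B] [Algebra A B] (I : Ideal A) (b : B) :
    (b ⊗ₜ[A] (1 : A ⧸ I)) = 0 ↔ b ∈ I.map (algebraMap A B) := by
  rw [← (TensorProduct.tensorQuotEquivQuotSMul B I).map_eq_zero_iff]
  have h : TensorProduct.tensorQuotEquivQuotSMul B I (b ⊗ₜ[A] (1 : A ⧸ I)) = Submodule.Quotient.mk b := by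
    rw [← map_one (Ideal.Quotient.mk I)]
    simp [TensorProduct.tensorQuotEquivQuotSMul, TensorProduct.quotTensorEquivQuotSMul_mk_tmul]
  rw [h, Submodule.Quotient.mk_eq_zero, Ideal.smul_top_eq_map, Submodule.restrictScalars_mem]

theorem exists_tmul_one {B : Type u} [CommRing B] [Algebra A B] (I : Ideal A) (z : B ⊗[A] (A ⧸ I)) :
    ∃ b : B, z = b ⊗ₜ[A] (1 : A ⧸ I) := by
  induction z using TensorProduct.induction_on with
  | zero => exact ⟨0, by simp⟩
  | tmul b q =>
    obtain ⟨a, rfl⟩ := Ideal.Quotient.mk_surjective q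
    refine ⟨a • b, ?_⟩
    rw [TensorProduct.smul_tmul]
    congr 1
    rw [Algebra.smul_def, mul_one]; rfl
  | add p q hp hq =>
    obtain ⟨b, rfl⟩ := hp
    obtain ⟨c, rfl⟩ := hq
    exact ⟨b + c, (TensorProduct.add_tmul _ _ _).symm⟩

/-- elements outside a prime act injectively on `B/pB`, `B` flat. -/
theorem mem_map_of_smul_mem {B : Type u} [CommRing B] [Algebra A B] [Module.Flat A B] (p : Ideal A) [p.IsPrime]
    {t : A} (ht : t ∉ p) {b : B} (h : algebraMap A B t * b ∈ p.map (algebraMap A B)) :
    b ∈ p.map (algebraMap A B) := by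
  rw [← tmul_one_eq_zero_iff] at h ⊢
  have hinj : Function.Injective (LinearMap.lsmul A (A ⧸ p) t) := by
    rw [injective_iff_map_eq_zero]
    intro x hx
    obtain ⟨x, rfl⟩ := Ideal.Quotient.mk_surjective x
    rw [LinearMap.lsmul_apply, Algebra.smul_def, Ideal.Quotient.algebraMap_eq, ← map_mul,
      Ideal.Quotient.eq_zero_iff_mem] at hx
    exact Ideal.Quotient.eq_zero_iff_mem.2 ((Ideal.IsPrime.mem_or_mem ‹_› hx).resolve_left ht)
  apply Module.Flat.lTensor_preserves_injective_linearMap (M := B) _ hinj
  rw [map_zero, LinearMap.lTensor_tmul, LinearMap.lsmul_apply, ← TensorProduct.smul_tmul, Algebra.smul_def]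
  exact h

section Compl

variable (R : Type u) [CommRing R] [IsLocalRing R] [IsNoetherianRing R] [Algebra A R]

/-- the completion of a local algebra. -/
abbrev Compl := AdicCompletion (maximalIdeal R) R

instance : IsNoetherianRing (Compl R) := LC.Canon.isNoetherianRing_completion

instance : Module.Flat R (Compl R) := LC.Canon.faithfullyFlat_completion.toFlat

theorem flat_compl [Module.Flat A R] : Module.Flat A (Compl R) := Module.Flat.trans A R (Compl R)

/-- universal property of the completion -/
theorem exists_lift (C : Type u) [CommRing C] [IsLocalRing C] [IsAdicComplete (maximalIdeal C) C] [Algebra A C]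
    (φ : R →ₐ[A] C) (hφ : (maximalIdeal R).map φ.toRingHom ≤ maximalIdeal C) :
    ∃ ψ : Compl R →ₐ[A] C, ∀ r : R, ψ (algebraMap R (Compl R) r) = φ r := by
  let f : (n : ℕ) → Compl R →+* C ⧸ maximalIdeal C ^ n := fun n =>
    (Ideal.quotientMap (maximalIdeal C ^ n) φ.toRingHom (by
      rw [← Ideal.map_le_iff_le_comap, Ideal.map_pow]
      exact Ideal.pow_right_mono hφ n)).comp (AdicCompletion.evalₐ (maximalIdeal R) n).toRingHom
  have hf : ∀ {m n : ℕ} (hle : m ≤ n), (Ideal.Quotient.factorPow (maximalIdeal C) hle).comp (f n) = f m := by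
    intro m n hle
    ext x
    induction x using AdicCompletion.induction_on with
    | h a =>
      have h1 : a.val m - a.val n ∈ maximalIdeal R ^ m := by
        have := SModEq.sub_mem.1 (a.property hle)
        rwa [smul_eq_mul, Ideal.mul_top] at this
      have h2 : Ideal.Quotient.mk (maximalIdeal R ^ m) (a.val n) = Ideal.Quotient.mk _ (a.val m) :=
        (Ideal.Quotient.eq.2 h1).symm
      simp only [f, RingHom.comp_apply, AlgHom.toRingHom_eq_coe, RingHom.coe_coe, AdicCompletion.evalₐ_mk,
        Ideal.quotientMap_mk, ← h2, Ideal.Quotient.factorPow, Ideal.Quotient.factor_mk]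
  have key : ∀ r : R, IsAdicComplete.liftRingHom (maximalIdeal C) f hf (algebraMap R (Compl R) r) = φ r := by
    intro r
    refine IsHausdorff.eq_iff_smodEq (I := maximalIdeal C) |>.2 fun n => ?_
    rw [smul_eq_mul, Ideal.mul_top, SModEq.def]
    change Ideal.Quotient.mk _ _ = Ideal.Quotient.mk _ _
    rw [IsAdicComplete.mk_liftRingHom]
    simp [f]
  refine ⟨{ IsAdicComplete.liftRingHom (maximalIdeal C) f hf with commutes' := fun a => ?_ }, key⟩
  change IsAdicComplete.liftRingHom (maximalIdeal C) f hf (algebraMap A (Compl R) a) = algebraMap A C a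
  rw [IsScalarTower.algebraMap_apply A R (Compl R), key, AlgHom.commutes]

end Compl

/-- compatible families -/
def Fam (M : Type u) [AddCommGroup M] [Module A M] : Type (u + 1) :=
  ∀ (B : Type u) [CommRing B] [Algebra A B] [IsNoetherianRing B] [IsLocalRing B],
    IsAdicComplete (maximalIdeal B) B → Module.Flat A B → B ⊗[A] M

variable {A}

def Compat {M : Type u} [AddCommGroup M] [Module A M] (x : Fam A M) : Prop :=
  ∀ (B : Type u) [CommRing B] [Algebra A B] [IsNoetherianRing B] [IsLocalRing B]
    (hB : IsAdicComplete (maximalIdeal B) B) (hBf : Module.Flat A B)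
    (B' : Type u) [CommRing B'] [Algebra A B'] [IsNoetherianRing B'] [IsLocalRing B']
    (hB' : IsAdicComplete (maximalIdeal B') B') (hB'f : Module.Flat A B') (g : B →ₐ[A] B'),
    LinearMap.rTensor M g.toLinearMap (x B hB hBf) = x B' hB' hB'f

def Const {M : Type u} [AddCommGroup M] [Module A M] (x : Fam A M) (m : M) : Prop :=
  ∀ (B : Type u) [CommRing B] [Algebra A B] [IsNoetherianRing B] [IsLocalRing B]
    (hB : IsAdicComplete (maximalIdeal B) B) (hBf : Module.Flat A B), x B hB hBf = (1 : B) ⊗ₜ[A] m

/-- Uniqueness: an element killed in all flat complete local algebras is zero. -/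
theorem eq_zero [IsNoetherianRing A] {M : Type u} [AddCommGroup M] [Module A M] (m : M)
    (h : ∀ (B : Type u) [CommRing B] [Algebra A B] [IsNoetherianRing B] [IsLocalRing B],
      IsAdicComplete (maximalIdeal B) B → Module.Flat A B → (1 : B) ⊗ₜ[A] m = 0) : m = 0 := by
  by_contra hm
  let I : Ideal A := LinearMap.ker (LinearMap.toSpanSingleton A M m)
  have hI : I ≠ ⊤ := fun h' => hm (by
    have : (1 : A) ∈ I := h' ▸ Submodule.mem_top
    simpa [I] using this)
  obtain ⟨n, hn, hIn⟩ := I.exists_le_maximal hI
  haveI := flat_compl A (Localization.AtPrime n)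
  have h1 := h (Compl (Localization.AtPrime n)) inferInstance inferInstance
  let j : (A ⧸ I) →ₗ[A] M := Submodule.liftQ I (LinearMap.toSpanSingleton A M m) le_rfl
  have hj : Function.Injective j := by
    rw [← LinearMap.ker_eq_bot, Submodule.ker_liftQ_eq_bot']
    rfl
  have h2 : ((1 : Compl (Localization.AtPrime n)) ⊗ₜ[A] (1 : A ⧸ I)) = 0 := by
    apply Module.Flat.lTensor_preserves_injective_linearMap (M := Compl (Localization.AtPrime n)) j hj
    rw [map_zero, LinearMap.lTensor_tmul, ← h1]
    congr 1
    change LinearMap.toSpanSingleton A M m 1 = m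
    simp
  rw [tmul_one_eq_zero_iff] at h2
  have h3 : n.map (algebraMap A (Compl (Localization.AtPrime n))) ≤ maximalIdeal (Compl (Localization.AtPrime n)) := by
    rw [IsScalarTower.algebraMap_eq A (Localization.AtPrime n), ← Ideal.map_map,
      Localization.AtPrime.map_eq_maximalIdeal, AdicCompletion.maximalIdeal_eq_map]
  exact (Ideal.ne_top_iff_one _).1 (maximalIdeal.isMaximal _).ne_top (h3 (Ideal.map_mono hIn h2))

variable [IsNoetherianRing A]

/-- The key case `M = A/p`. -/
theorem exists_const_quotient (p : Ideal A) [p.IsPrime] (x : Fam A (A ⧸ p)) (hx : Compat x) :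
    ∃ m, Const x m := by
  classical
  haveI := flat_compl A (Localization.AtPrime p)
  set P := Compl (Localization.AtPrime p) with hP
  obtain ⟨bp, hbp⟩ := exists_tmul_one A p (x P inferInstance inferInstance)
  obtain ⟨r, hr⟩ : ∃ r : Localization.AtPrime p,
      bp - algebraMap _ P r ∈ (maximalIdeal (Localization.AtPrime p)).map (algebraMap _ P) := by
    rw [← AdicCompletion.maximalIdeal_eq_map]
    obtain ⟨r, hr⟩ := (AdicCompletion.residueField_map_bijective_of_fg
      (IsNoetherian.noetherian (maximalIdeal (Localization.AtPrime p)))).2 (residue P bp)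
    obtain ⟨r, rfl⟩ := residue_surjective r
    refine ⟨r, ?_⟩
    rw [← residue_eq_zero_iff, map_sub, sub_eq_zero]
    exact hr.symm
  obtain ⟨a, s, rfl⟩ := IsLocalization.exists_mk'_eq p.primeCompl r
  have hPa : algebraMap A P s * bp - algebraMap A P a ∈ p.map (algebraMap A P) := by
    rw [IsScalarTower.algebraMap_eq A (Localization.AtPrime p) P, ← Ideal.map_map,
      Localization.AtPrime.map_eq_maximalIdeal]
    have := Ideal.mul_mem_left _ (algebraMap (Localization.AtPrime p) P (algebraMap A _ s.1)) hr
    rw [mul_sub, ← map_mul, IsLocalization.mk'_spec'] at this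
    exact this
  -- every member satisfies `s b ≡ a`
  have key : ∀ (B : Type u) [CommRing B] [Algebra A B] [IsNoetherianRing B] [IsLocalRing B]
      (hB : IsAdicComplete (maximalIdeal B) B) (hBf : Module.Flat A B),
      ∃ b : B, x B hB hBf = b ⊗ₜ[A] (1 : A ⧸ p) ∧ algebraMap A B s * b - algebraMap A B a ∈ p.map (algebraMap A B) := by
    intro B _ _ _ _ hB hBf
    obtain ⟨b, hb⟩ := exists_tmul_one A p (x B hB hBf)
    refine ⟨b, hb, ?_⟩
    by_contra hz
    set z := algebraMap A B s * b - algebraMap A B a
    let Q := B ⧸ p.map (algebraMap A B)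
    have hz' : (Submodule.Quotient.mk z : Q) ≠ 0 := fun h => hz ((Submodule.Quotient.mk_eq_zero _).1 h)
    obtain ⟨q, hq, hle⟩ := exists_le_isAssociatedPrime_of_isNoetherianRing B (Submodule.Quotient.mk z : Q) hz'
    haveI hqp : q.IsPrime := hq.1
    have hover : q.comap (algebraMap A B) = p := by
      refine le_antisymm ?_ ?_
      · intro t ht
        by_contra htp
        obtain ⟨y, hy⟩ := hq.2
        rw [Ideal.mem_comap, hy] at ht
        obtain ⟨n, hn⟩ := ht
        obtain ⟨y, rfl⟩ := Submodule.Quotient.mk_surjective _ y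
        rw [Submodule.mem_colon_singleton, Submodule.mem_bot, ← Submodule.Quotient.mk_smul,
          Submodule.Quotient.mk_eq_zero, smul_eq_mul, ← map_pow] at hn
        have h0 := mem_map_of_smul_mem A p (fun h => htp (Ideal.IsPrime.mem_of_pow_mem ‹_› n h)) hn
        have htop : q = ⊤ := by
          rw [hy, Ideal.radical_eq_top, Ideal.eq_top_iff_one, Submodule.mem_colon_singleton,
            Submodule.mem_bot, one_smul, Submodule.Quotient.mk_eq_zero]
          exact h0
        exact hqp.ne_top htop
      · intro t ht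
        refine hle ?_
        rw [Submodule.mem_colon_singleton, Submodule.mem_bot, ← Submodule.Quotient.mk_smul, Submodule.Quotient.mk_eq_zero]
        exact Ideal.mul_mem_right _ _ (Ideal.mem_map_of_mem _ ht)
    let Bq := Localization.AtPrime q
    haveI : IsNoetherianRing Bq := IsLocalization.isNoetherianRing q.primeCompl Bq inferInstance
    haveI : Module.Flat A Bq := Module.Flat.trans A B Bq
    haveI := flat_compl A Bq
    set C := Compl Bq
    let φ : Localization.AtPrime p →ₐ[A] C :=
      IsLocalization.liftAlgHom (M := p.primeCompl) (f := Algebra.ofId A C) (fun t => by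
        have : IsUnit (algebraMap A Bq t) := by
          rw [IsScalarTower.algebraMap_apply A B Bq]
          exact IsLocalization.map_units Bq (⟨algebraMap A B t, fun h => t.2 (hover ▸ h)⟩ : q.primeCompl)
        rw [Algebra.ofId_apply, IsScalarTower.algebraMap_apply A Bq C]
        exact this.map _)
    obtain ⟨ψ, -⟩ := exists_lift A (Localization.AtPrime p) C φ (by
      have h1 : (maximalIdeal (Localization.AtPrime p)).map φ.toRingHom =
          (p.map (algebraMap A Bq)).map (algebraMap Bq C) := by
        conv_lhs => rw [← Localization.AtPrime.map_eq_maximalIdeal (I := p)]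
        rw [Ideal.map_map, Ideal.map_map, AlgHom.toRingHom_eq_coe, φ.comp_algebraMap, ← IsScalarTower.algebraMap_eq]
      have h2 : p.map (algebraMap A Bq) ≤ maximalIdeal Bq := by
        rw [IsScalarTower.algebraMap_eq A B Bq, ← Ideal.map_map, ← Localization.AtPrime.map_eq_maximalIdeal (I := q)]
        exact Ideal.map_mono (Ideal.map_le_iff_le_comap.2 hover.ge)
      exact h1.le.trans ((Ideal.map_mono h2).trans (AdicCompletion.maximalIdeal_eq_map (R := Bq)).ge))
    let γ : B →ₐ[A] C := IsScalarTower.toAlgHom A B C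
    have e1 := hx B hB hBf C inferInstance inferInstance γ
    have e2 := hx P inferInstance inferInstance C inferInstance inferInstance ψ
    rw [hb, LinearMap.rTensor_tmul] at e1
    rw [hbp, LinearMap.rTensor_tmul] at e2
    have e3 : γ b - ψ bp ∈ p.map (algebraMap A C) := by
      rw [← tmul_one_eq_zero_iff, TensorProduct.sub_tmul]
      exact sub_eq_zero.2 (e1.trans e2.symm)
    have hψm : ∀ y ∈ p.map (algebraMap A P), ψ y ∈ p.map (algebraMap A C) := by
      intro y hy
      have := Ideal.mem_map_of_mem ψ.toRingHom hy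
      rwa [Ideal.map_map, AlgHom.toRingHom_eq_coe, ψ.comp_algebraMap] at this
    have e4 := hψm _ hPa
    rw [map_sub, map_mul, AlgHom.commutes, AlgHom.commutes] at e4
    have e5 : algebraMap B C z ∈ p.map (algebraMap A C) := by
      have : algebraMap B C z = algebraMap A C s * (γ b - ψ bp) + (algebraMap A C s * ψ bp - algebraMap A C a) := by
        simp only [z, γ, map_sub, map_mul, IsScalarTower.toAlgHom_apply, ← IsScalarTower.algebraMap_apply]
        ring
      rw [this]
      exact Ideal.add_mem _ (Ideal.mul_mem_left _ _ e3) e4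
    haveI : Module.FaithfullyFlat Bq C := LC.Canon.faithfullyFlat_completion
    have e6 : algebraMap B Bq z ∈ (p.map (algebraMap A B)).map (algebraMap B Bq) := by
      rw [← Ideal.comap_map_eq_self_of_faithfullyFlat (B := C) ((p.map (algebraMap A B)).map (algebraMap B Bq)),
        Ideal.mem_comap, Ideal.map_map, Ideal.map_map, ← IsScalarTower.algebraMap_apply,
        ← IsScalarTower.algebraMap_eq B Bq C, ← IsScalarTower.algebraMap_eq A B C]
      exact e5
    obtain ⟨v, hv, hvz⟩ := (IsLocalization.algebraMap_mem_map_algebraMap_iff q.primeCompl Bq _ z).1 e6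
    refine hv (hle ?_)
    rw [Submodule.mem_colon_singleton, Submodule.mem_bot, ← Submodule.Quotient.mk_smul, Submodule.Quotient.mk_eq_zero]
    exact hvz
  -- hence `a ∈ (s) + p`
  have ha : a ∈ p ⊔ Ideal.span {(s : A)} := by
    apply Ideal.mem_of_localization_maximal
    intro n hn
    haveI := flat_compl A (Localization.AtPrime n)
    obtain ⟨b, -, hb⟩ := key (Compl (Localization.AtPrime n)) inferInstance inferInstance
    haveI : Module.FaithfullyFlat (Localization.AtPrime n) (Compl (Localization.AtPrime n)) :=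
      LC.Canon.faithfullyFlat_completion
    rw [← Ideal.comap_map_eq_self_of_faithfullyFlat (B := Compl (Localization.AtPrime n))
        ((p ⊔ Ideal.span {(s : A)}).map (algebraMap A (Localization.AtPrime n))),
      Ideal.mem_comap, Ideal.map_map, ← IsScalarTower.algebraMap_apply, ← IsScalarTower.algebraMap_eq,
      Ideal.map_sup]
    have e : algebraMap A (Compl (Localization.AtPrime n)) a =
        -(algebraMap A _ s * b - algebraMap A _ a) + algebraMap A _ s * b := by ring
    rw [e]
    refine Ideal.add_mem _ (neg_mem (Submodule.mem_sup_left hb)) (Submodule.mem_sup_right ?_)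
    exact Ideal.mul_mem_right _ _ (Ideal.mem_map_of_mem _ (Ideal.mem_span_singleton_self _))
  obtain ⟨c, hc, d, hd, hcd⟩ := Submodule.mem_sup.1 ha
  obtain ⟨a0, rfl⟩ := Ideal.mem_span_singleton'.1 hd
  refine ⟨Ideal.Quotient.mk p a0, fun B _ _ _ _ hB hBf => ?_⟩
  obtain ⟨b, hb, hba⟩ := key B hB hBf
  have h1 : b - algebraMap A B a0 ∈ p.map (algebraMap A B) := by
    refine mem_map_of_smul_mem A p s.2 ?_
    have : algebraMap A B s * (b - algebraMap A B a0) = (algebraMap A B s * b - algebraMap A B a) + algebraMap A B c := by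
      rw [← hcd, map_add, map_mul]; ring
    rw [this]
    exact Ideal.add_mem _ hba (Ideal.mem_map_of_mem _ hc)
  rw [← tmul_one_eq_zero_iff, TensorProduct.sub_tmul, sub_eq_zero] at h1
  rw [hb, h1, Algebra.algebraMap_eq_smul_one, TensorProduct.smul_tmul, Algebra.smul_def, mul_one]
  rfl

/-- Descent for finite modules. -/
theorem exists_const (M : Type u) [AddCommGroup M] [Module A M] [Module.Finite A M] :
    ∀ x : Fam A M, Compat x → ∃ m, Const x m := by
  refine IsNoetherianRing.induction_on_isQuotientEquivQuotientPrime A ‹Module.Finite A M›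
    (motive := fun N _ _ _ => ∀ x : Fam A N, Compat x → ∃ m, Const x m) ?_ ?_ ?_
  · intro N _ _ _ _ x _
    exact ⟨0, fun B _ _ _ _ hB hBf => Subsingleton.elim _ _⟩
  · intro N _ _ _ p e x hx
    obtain ⟨m, hm⟩ := exists_const_quotient p.1
      (fun B _ _ _ _ hB hBf => LinearMap.lTensor B e.toLinearMap (x B hB hBf))
      (fun B _ _ _ _ hB hBf B' _ _ _ _ hB' hB'f g => by
        dsimp only
        rw [← hx B hB hBf B' hB' hB'f g, ← LinearMap.comp_apply, ← LinearMap.comp_apply,
          LinearMap.rTensor_comp_lTensor, LinearMap.lTensor_comp_rTensor])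
    refine ⟨e.symm m, fun B _ _ _ _ hB hBf => ?_⟩
    apply (LinearEquiv.lTensor B e).injective
    have := hm B hB hBf
    change LinearMap.lTensor B e.toLinearMap (x B hB hBf) = LinearMap.lTensor B e.toLinearMap ((1 : B) ⊗ₜ[A] e.symm m)
    rw [LinearMap.lTensor_tmul, LinearEquiv.coe_coe, LinearEquiv.apply_symm_apply]
    exact this
  · intro N₁ _ _ _ N₂ _ _ _ N₃ _ _ _ f g hf hg hfg h1 h3 x hx
    obtain ⟨m₃, hm₃⟩ := h3 (fun B _ _ _ _ hB hBf => LinearMap.lTensor B g (x B hB hBf))
      (fun B _ _ _ _ hB hBf B' _ _ _ _ hB' hB'f γ => by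
        dsimp only
        rw [← hx B hB hBf B' hB' hB'f γ, ← LinearMap.comp_apply, ← LinearMap.comp_apply,
          LinearMap.rTensor_comp_lTensor, LinearMap.lTensor_comp_rTensor])
    obtain ⟨m, rfl⟩ := hg m₃
    have hex : ∀ (B : Type u) [CommRing B] [Algebra A B] [IsNoetherianRing B] [IsLocalRing B]
        (hB : IsAdicComplete (maximalIdeal B) B) (hBf : Module.Flat A B),
        ∃ y : B ⊗[A] N₁, LinearMap.lTensor B f y = x B hB hBf - (1 : B) ⊗ₜ[A] m := by
      intro B _ _ _ _ hB hBf
      have := hBf
      refine ((Module.Flat.lTensor_exact (M := B) hfg) _).1 ?_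
      have h3 := hm₃ B hB hBf
      dsimp only at h3
      rw [map_sub, LinearMap.lTensor_tmul, h3, sub_self]
    let y : Fam A N₁ := fun B _ _ _ _ hB hBf => (hex B hB hBf).choose
    obtain ⟨m₁, hm₁⟩ := h1 y (fun B _ _ _ _ hB hBf B' _ _ _ _ hB' hB'f γ => by
      have := hB'f
      apply Module.Flat.lTensor_preserves_injective_linearMap (M := B') f hf
      rw [(hex B' hB' hB'f).choose_spec, ← LinearMap.comp_apply, LinearMap.lTensor_comp_rTensor,
        ← LinearMap.rTensor_comp_lTensor, LinearMap.comp_apply, (hex B hB hBf).choose_spec, map_sub,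
        hx B hB hBf B' hB' hB'f γ, LinearMap.rTensor_tmul, AlgHom.toLinearMap_apply, map_one])
    refine ⟨f m₁ + m, fun B _ _ _ _ hB hBf => ?_⟩
    have h := (hex B hB hBf).choose_spec
    change LinearMap.lTensor B f (y B hB hBf) = _ at h
    rw [hm₁ B hB hBf, LinearMap.lTensor_tmul] at h
    rw [TensorProduct.tmul_add, h, sub_add_cancel]

end Groth.Agent.ComplFam
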